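import Cfsg.Agent.Lib.Zassenhaus.Setup
import Mathlib.GroupTheory.GroupAction.Quotient
import Mathlib.GroupTheory.Sylow

/-!
# An involution whose centraliser has constant fixity: counting

`G` is 2-transitive, `t` is an involution with `i` fixed points and every non-identity element
commuting with `t` has `i` fixed points. Counting the pairs moved by conjugates of `t` gives
`n = i + |C(t)|`, and that every element interchanging two points is conjugate to `t`.
-/

set_option autoImplicit false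
set_option linter.unusedSectionVars false
set_option linter.style.haveILetI false

namespace Cfsg.Agent.InvFix

open MulAction Cfsg.Agent.Zass
open scoped Classical

universe u v

variable {G : Type u} [Group G] [Finite G] {Ω : Type v} [MulAction G Ω] [Fintype Ω]

/-- The number of fixed points. -/
noncomputable abbrev fx (Ω : Type v) [MulAction G Ω] (g : G) : ℕ :=
  Nat.card {x : Ω // g • x = x}

theorem fx_conj (g x : G) : fx Ω (x * g * x⁻¹) = fx Ω g :=
  Nat.card_congr ((MulAction.toPerm x⁻¹ : Equiv.Perm Ω).subtypeEquiv fun a => by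
    rw [MulAction.toPerm_apply, mul_smul, mul_smul]
    exact ⟨fun h => eq_inv_smul_iff.mpr h, fun h => eq_inv_smul_iff.mp h⟩)

/-- The hypothesis. -/
structure Hyp (G : Type u) [Group G] (Ω : Type v) [MulAction G Ω] (t : G) (i : ℕ) : Prop where
  faith : FaithfulSMul G Ω
  two : MulAction.IsMultiplyPretransitive G Ω 2
  ord : orderOf t = 2
  fixt : fx Ω t = i
  cent : ∀ g : G, Commute g t → g ≠ 1 → fx Ω g = i

namespace Hyp

variable {t : G} {i : ℕ} (h : Hyp G Ω t i)
include h

theorem move {a b p q : Ω} (hab : a ≠ b) (hpq : p ≠ q) : ∃ g : G, g • a = p ∧ g • b = q :=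
  is_two_pretransitive_iff.mp h.two hab hpq

theorem mul_self : t * t = 1 := by
  rw [← pow_two, ← h.ord, pow_orderOf_eq_one]

theorem ne_one : t ≠ 1 := fun e => by have := h.ord; rw [e, orderOf_one] at this; omega

theorem conj_mul_self {s : G} (hs : IsConj t s) : s * s = 1 := by
  obtain ⟨x, rfl⟩ := isConj_iff.mp hs
  rw [show x * t * x⁻¹ * (x * t * x⁻¹) = x * (t * t) * x⁻¹ by group, h.mul_self, mul_one,
    mul_inv_cancel]

theorem conj_ne_one {s : G} (hs : IsConj t s) : s ≠ 1 := by
  obtain ⟨x, rfl⟩ := isConj_iff.mp hs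
  exact fun e => h.ne_one (conj_eq_one_iff.mp e)

theorem conj_fx {s : G} (hs : IsConj t s) : fx Ω s = i := by
  obtain ⟨x, rfl⟩ := isConj_iff.mp hs
  rw [fx_conj, h.fixt]

theorem conj_smul_smul {s : G} (hs : IsConj t s) (x : Ω) : s • (s • x) = x := by
  rw [← mul_smul, h.conj_mul_self hs, one_smul]

/-- Elements commuting with a conjugate of `t`. -/
theorem fx_of_comm {s g : G} (hs : IsConj t s) (hc : Commute g s) (hg : g ≠ 1) : fx Ω g = i := by
  obtain ⟨x, rfl⟩ := isConj_iff.mp hs
  have h1 : Commute (x⁻¹ * g * x) t := by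
    have e := hc.eq
    show x⁻¹ * g * x * t = t * (x⁻¹ * g * x)
    calc x⁻¹ * g * x * t = x⁻¹ * (g * (x * t * x⁻¹)) * x := by group
      _ = x⁻¹ * (x * t * x⁻¹ * g) * x := by rw [e]
      _ = t * (x⁻¹ * g * x) := by group
  have h2 := h.cent _ h1 (fun e => hg (by
    have : g = x * (x⁻¹ * g * x) * x⁻¹ := by group
    rw [this, e, mul_one, mul_inv_cancel]))
  rw [← h2, show g = x * (x⁻¹ * g * x) * x⁻¹ by group, fx_conj]
  exact congrArg (fx Ω) (by group)

theorem fx_lt : i < Nat.card Ω := by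
  rw [← h.fixt]
  by_contra hle
  push Not at hle
  haveI := h.faith
  refine h.ne_one (eq_of_smul_eq_smul fun x : Ω => ?_)
  rw [one_smul]
  by_contra hx
  have : fx Ω t < Nat.card Ω := by
    rw [fx, Nat.card_eq_fintype_card, Nat.card_eq_fintype_card]
    exact Fintype.card_subtype_lt (p := fun y => t • y = y) hx
  omega

theorem exists_moved : ∃ a : Ω, t • a ≠ a := by
  by_contra hx
  push Not at hx
  exact h.ne_one (h.faith.eq_of_smul_eq_smul fun x : Ω => by rw [hx, one_smul])

theorem two_le_card : 2 ≤ Nat.card Ω := by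
  obtain ⟨a, ha⟩ := h.exists_moved
  haveI : Nontrivial Ω := ⟨⟨_, _, ha⟩⟩
  rw [Nat.card_eq_fintype_card]
  exact Fintype.one_lt_card

/-- The order of a two-point stabiliser does not depend on the points. -/
theorem card_two {a b p q : Ω} (hab : a ≠ b) (hpq : p ≠ q) :
    Nat.card (Zass.two (G := G) a b) = Nat.card (Zass.two (G := G) p q) := by
  obtain ⟨g, hga, hgb⟩ := h.move hab hpq
  refine Nat.card_congr ((MulAut.conj g).toEquiv.subtypeEquiv fun x => ?_)
  show x ∈ Zass.two a b ↔ g * x * g⁻¹ ∈ Zass.two p q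
  rw [mem_two, mem_two, mul_smul, mul_smul, mul_smul, mul_smul,
    show g⁻¹ • p = a by rw [inv_smul_eq_iff, hga], show g⁻¹ • q = b by rw [inv_smul_eq_iff, hgb]]
  refine and_congr ⟨fun e => by rw [e, hga], fun e => ?_⟩ ⟨fun e => by rw [e, hgb], fun e => ?_⟩
  · exact (smul_left_cancel_iff g).mp (e.trans hga.symm)
  · exact (smul_left_cancel_iff g).mp (e.trans hgb.symm)

/-- `|G| = n (n - 1) |G_ab|`. -/
theorem card_group {a b : Ω} (hab : a ≠ b) :
    Nat.card G = Nat.card {p : Ω × Ω // p.1 ≠ p.2} * Nat.card (Zass.two (G := G) a b) := by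
  rw [← Nat.card_prod]
  let σ : {p : Ω × Ω // p.1 ≠ p.2} → G := fun p => (h.move hab p.2).choose
  have hσ : ∀ p : {p : Ω × Ω // p.1 ≠ p.2}, σ p • a = p.1.1 ∧ σ p • b = p.1.2 :=
    fun p => (h.move hab p.2).choose_spec
  let π : G → {p : Ω × Ω // p.1 ≠ p.2} := fun g =>
    ⟨(g • a, g • b), fun e => hab ((smul_left_cancel_iff g).mp e)⟩
  refine Nat.card_congr
    { toFun := fun g => (π g, ⟨(σ (π g))⁻¹ * g, mem_two.mpr
        ⟨by rw [mul_smul, inv_smul_eq_iff, (hσ _).1], by rw [mul_smul, inv_smul_eq_iff, (hσ _).2]⟩⟩)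
      invFun := fun q => σ q.1 * q.2.1
      left_inv := fun g => mul_inv_cancel_left _ _
      right_inv := fun q => ?_ }
  have e : π (σ q.1 * q.2.1) = q.1 := by
    refine Subtype.ext (Prod.ext ?_ ?_)
    · show (σ q.1 * q.2.1) • a = _
      rw [mul_smul, (mem_two.mp q.2.2).1, (hσ _).1]
    · show (σ q.1 * q.2.1) • b = _
      rw [mul_smul, (mem_two.mp q.2.2).2, (hσ _).2]
  refine Prod.ext e (Subtype.ext ?_)
  show (σ (π (σ q.1 * q.2.1)))⁻¹ * (σ q.1 * q.2.1) = q.2.1
  rw [e, inv_mul_cancel_left]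

/-- Pairs moved by conjugates of `t`. -/
theorem count_moved {a b : Ω} (hab : a ≠ b) :
    Nat.card {s : G // IsConj t s} * (Nat.card Ω - i) =
      Nat.card {p : Ω × Ω // p.1 ≠ p.2} * Nat.card {s : G // IsConj t s ∧ s • a = b} := by
  have hfib : ∀ p : {p : Ω × Ω // p.1 ≠ p.2},
      Nat.card {s : G // IsConj t s ∧ s • p.1.1 = p.1.2} =
        Nat.card {s : G // IsConj t s ∧ s • a = b} := fun p => by
    obtain ⟨g, hga, hgb⟩ := h.move hab p.2
    refine (Nat.card_congr ((MulAut.conj g).toEquiv.subtypeEquiv fun s => ?_)).symm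
    show IsConj t s ∧ s • a = b ↔ IsConj t (g * s * g⁻¹) ∧ (g * s * g⁻¹) • p.1.1 = p.1.2
    rw [mul_smul, mul_smul, show g⁻¹ • p.1.1 = a by rw [inv_smul_eq_iff, hga]]
    refine and_congr ⟨fun e => e.trans (isConj_iff.mpr ⟨g, rfl⟩),
      fun e => e.trans (isConj_iff.mpr ⟨g, rfl⟩).symm⟩ ⟨fun e => by rw [e, hgb], fun e => ?_⟩
    exact (smul_left_cancel_iff g).mp (e.trans hgb.symm)
  have hmv : ∀ s : {s : G // IsConj t s},
      Nat.card {x : Ω // s.1 • x ≠ x} = Nat.card Ω - i := fun s => by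
    have hfs : fx Ω s.1 = i := h.conj_fx s.2
    rw [fx, Nat.card_eq_fintype_card] at hfs
    rw [Nat.card_eq_fintype_card, Nat.card_eq_fintype_card, Fintype.card_subtype_compl, hfs]
  letI : Fintype G := Fintype.ofFinite G
  have e : Nat.card (Σ s : {s : G // IsConj t s}, {x : Ω // s.1 • x ≠ x}) =
      Nat.card (Σ p : {p : Ω × Ω // p.1 ≠ p.2}, {s : G // IsConj t s ∧ s • p.1.1 = p.1.2}) :=
    Nat.card_congr
      { toFun := fun q => ⟨⟨(q.2.1, q.1.1 • q.2.1), fun e => q.2.2 e.symm⟩, ⟨q.1.1, q.1.2, rfl⟩⟩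
        invFun := fun q => ⟨⟨q.2.1, q.2.2.1⟩, ⟨q.1.1.1, fun e => q.1.2 (e.symm.trans q.2.2.2)⟩⟩
        left_inv := fun _ => rfl
        right_inv := fun q => by
          obtain ⟨⟨⟨x, y⟩, hxy⟩, ⟨s, hs, hy⟩⟩ := q
          dsimp only at hy
          subst hy
          rfl }
  rw [Nat.card_sigma, Nat.card_sigma] at e
  simp only [hfib, hmv, Finset.sum_const, Finset.card_univ, smul_eq_mul] at e
  rw [Nat.card_eq_fintype_card (α := {s : G // IsConj t s}),
    Nat.card_eq_fintype_card (α := {p : Ω × Ω // p.1 ≠ p.2})]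
  exact e

theorem card_conjugates :
    Nat.card {s : G // IsConj t s} * Nat.card (Subgroup.centralizer ({t} : Set G)) = Nat.card G := by
  rw [Subgroup.centralizer_eq_comap_stabilizer]
  have h1 := Subgroup.index_mul_card (MulAction.stabilizer (ConjAct G) t)
  rw [MulAction.index_stabilizer] at h1
  have e1 : Nat.card {s : G // IsConj t s} = (MulAction.orbit (ConjAct G) t).ncard := by
    rw [← Nat.card_coe_set_eq]
    exact Nat.card_congr (Equiv.subtypeEquivRight fun s => by rw [ConjAct.mem_orbit_conjAct]; exact isConj_comm)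
  have e2 : Nat.card ((MulAction.stabilizer (ConjAct G) t).comap (ConjAct.toConjAct : G ≃* ConjAct G).toMonoidHom) =
      Nat.card (MulAction.stabilizer (ConjAct G) t) :=
    Nat.card_congr ((ConjAct.toConjAct : G ≃* ConjAct G).toEquiv.subtypeEquiv fun g => Iff.rfl)
  rw [e1]
  exact (congrArg (_ * ·) e2).trans (h1.trans (Nat.card_congr ConjAct.ofConjAct.toEquiv))

/-- The orbit count of the centraliser gives `n - i ≥ |C(t)|`. -/
theorem card_le : i + Nat.card (Subgroup.centralizer ({t} : Set G)) ≤ Nat.card Ω := by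
  set C := Subgroup.centralizer ({t} : Set G) with hC
  letI : Fintype C := Fintype.ofFinite C
  have hb := MulAction.sum_card_fixedBy_eq_card_orbits_mul_card_group C Ω
  have hf : ∀ g : C, Fintype.card (MulAction.fixedBy Ω g) = if g = 1 then Nat.card Ω else i := fun g => by
    rw [← Nat.card_eq_fintype_card]
    split_ifs with hg
    · subst hg
      exact Nat.card_congr (Equiv.subtypeUnivEquiv fun x => one_smul _ x)
    · exact h.cent g.1 (Subgroup.mem_centralizer_singleton_iff.mp g.2) (fun e => hg (Subtype.ext e))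
  simp only [hf] at hb
  rw [Fintype.sum_eq_add_sum_compl (1 : C), if_pos rfl,
    Finset.sum_congr rfl (fun x hx => if_neg (by simpa using hx)), Finset.sum_const, smul_eq_mul,
    Finset.card_compl, Finset.card_singleton,
    ← Nat.card_eq_fintype_card (α := C)] at hb
  have hc : 1 ≤ Nat.card C := Nat.card_pos
  have hlt := h.fx_lt
  obtain ⟨c, hc'⟩ : ∃ c, Nat.card C = c + 1 := ⟨Nat.card C - 1, by omega⟩
  rw [hc'] at hb ⊢
  rw [Nat.add_sub_cancel] at hb
  set r := Fintype.card (Quotient (MulAction.orbitRel C Ω))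
  have hr : i + 1 ≤ r := by
    by_contra hr
    push Not at hr
    have : r * (c + 1) ≤ i * (c + 1) := Nat.mul_le_mul_right _ (by omega)
    nlinarith
  have : (i + 1) * (c + 1) ≤ r * (c + 1) := Nat.mul_le_mul_right _ hr
  nlinarith

/-- The fundamental count: `n = i + |C(t)|` and all elements interchanging two points are
conjugate to `t`. -/
theorem fundamental :
    Nat.card Ω = i + Nat.card (Subgroup.centralizer ({t} : Set G)) ∧
      ∀ a b : Ω, a ≠ b → ∀ g : G, g • a = b → g • b = a → IsConj t g := by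
  have key : ∀ a b : Ω, a ≠ b →
      Nat.card (Zass.two (G := G) a b) * (Nat.card Ω - i) =
        Nat.card (Subgroup.centralizer ({t} : Set G)) * Nat.card {s : G // IsConj t s ∧ s • a = b} ∧
      Nat.card {g : G // g • a = b ∧ g • b = a} = Nat.card (Zass.two (G := G) a b) := fun a b hab => by
    refine ⟨?_, ?_⟩
    · have h1 := h.count_moved hab
      have h2 := h.card_group hab
      have h3 := h.card_conjugates
      have hW : 0 < Nat.card {p : Ω × Ω // p.1 ≠ p.2} :=
        haveI : Nonempty {p : Ω × Ω // p.1 ≠ p.2} := ⟨⟨(a, b), hab⟩⟩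
        Nat.card_pos
      refine Nat.eq_of_mul_eq_mul_left hW ?_
      rw [← mul_assoc, ← h2, ← h3, mul_left_comm, ← h1]
      ring
    · obtain ⟨s, hsa, hsb⟩ := h.move hab (Ne.symm hab)
      exact (Nat.card_congr
        { toFun := fun x => ⟨s * x.1, by rw [mul_smul, (mem_two.mp x.2).1, hsa],
            by rw [mul_smul, (mem_two.mp x.2).2, hsb]⟩
          invFun := fun g => ⟨s⁻¹ * g.1, mem_two.mpr
            ⟨by rw [mul_smul, g.2.1, inv_smul_eq_iff, hsa], by rw [mul_smul, g.2.2, inv_smul_eq_iff, hsb]⟩⟩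
          left_inv := fun x => Subtype.ext (inv_mul_cancel_left _ _)
          right_inv := fun g => Subtype.ext (mul_inv_cancel_left _ _) }).symm
  have sub : ∀ a b : Ω, ∀ s : G, IsConj t s ∧ s • a = b → s • a = b ∧ s • b = a := fun a b s hs =>
    ⟨hs.2, by rw [← hs.2, h.conj_smul_smul hs.1]⟩
  have mle : ∀ a b : Ω, a ≠ b →
      Nat.card {s : G // IsConj t s ∧ s • a = b} ≤ Nat.card (Zass.two (G := G) a b) := fun a b hab => by
    rw [← (key a b hab).2]
    exact Nat.card_le_card_of_injective (Subtype.map id (sub a b))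
      (Subtype.map_injective _ Function.injective_id)
  have hle := h.card_le
  obtain ⟨a0, ha0⟩ := h.exists_moved
  have hn : Nat.card Ω - i = Nat.card (Subgroup.centralizer ({t} : Set G)) := by
    refine le_antisymm ?_ (by omega)
    obtain ⟨h1, -⟩ := key (t • a0) a0 ha0
    refine Nat.le_of_mul_le_mul_left ?_ (Nat.card_pos (α := Zass.two (G := G) (t • a0) a0))
    rw [h1, mul_comm]
    exact Nat.mul_le_mul_right _ (mle _ _ ha0)
  refine ⟨by omega, fun a b hab g hga hgb => ?_⟩
  obtain ⟨h1, h2⟩ := key a b hab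
  rw [hn, mul_comm] at h1
  have h3 := Nat.eq_of_mul_eq_mul_left Nat.card_pos h1
  have hbij : Function.Bijective (Subtype.map id (sub a b) :
      {s : G // IsConj t s ∧ s • a = b} → {g : G // g • a = b ∧ g • b = a}) :=
    (Nat.bijective_iff_injective_and_card _).mpr ⟨Subtype.map_injective _ Function.injective_id,
      by rw [h2, ← h3]⟩
  obtain ⟨⟨s, hs⟩, e⟩ := hbij.2 ⟨g, hga, hgb⟩
  have e' : s = g := congrArg Subtype.val e
  exact e' ▸ hs.1

theorem card_eq : Nat.card Ω = i + Nat.card (Subgroup.centralizer ({t} : Set G)) := h.fundamental.1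

theorem swap_conj {a b : Ω} (hab : a ≠ b) {g : G} (hga : g • a = b) (hgb : g • b = a) : IsConj t g :=
  h.fundamental.2 a b hab g hga hgb

theorem exists_swap {a b : Ω} (hab : a ≠ b) : ∃ s : G, IsConj t s ∧ s • a = b ∧ s • b = a := by
  obtain ⟨s, hsa, hsb⟩ := h.move hab (Ne.symm hab)
  exact ⟨s, h.swap_conj hab hsa hsb, hsa, hsb⟩

/-- An element interchanging two points inverts their stabiliser. -/
theorem swap_inverts {a b : Ω} (hab : a ≠ b) {s : G} (hsa : s • a = b) (hsb : s • b = a) {x : G}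
    (hx : x ∈ Zass.two a b) : s * x * s⁻¹ = x⁻¹ := by
  have h1 := h.conj_mul_self (h.swap_conj hab (g := s * x) (by rw [mul_smul, (mem_two.mp hx).1, hsa])
    (by rw [mul_smul, (mem_two.mp hx).2, hsb]))
  have h2 := h.conj_mul_self (h.swap_conj hab hsa hsb)
  rw [inv_eq_of_mul_eq_one_right h2]
  refine eq_inv_of_mul_eq_one_left ?_
  rw [mul_assoc]
  exact h1

theorem two_comm {a b : Ω} (hab : a ≠ b) {x y : G} (hx : x ∈ Zass.two a b) (hy : y ∈ Zass.two a b) :
    x * y = y * x := by
  obtain ⟨s, -, hsa, hsb⟩ := h.exists_swap hab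
  have e := h.swap_inverts hab hsa hsb (Subgroup.mul_mem _ hx hy)
  have e' : s * x * s⁻¹ * (s * y * s⁻¹) = (x * y)⁻¹ := by rw [← e]; group
  rw [h.swap_inverts hab hsa hsb hx, h.swap_inverts hab hsa hsb hy, mul_inv_rev] at e'
  have := congrArg Inv.inv e'
  rw [mul_inv_rev, mul_inv_rev, inv_inv, inv_inv] at this
  exact this.symm

/-- Every involution is conjugate to `t`. -/
theorem involution_conj {u : G} (hu : u * u = 1) (hu1 : u ≠ 1) : IsConj t u := by
  obtain ⟨x, hx⟩ : ∃ x : Ω, u • x ≠ x := by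
    by_contra hx
    push Not at hx
    exact hu1 (h.faith.eq_of_smul_eq_smul fun x : Ω => by rw [hx, one_smul])
  exact h.swap_conj (Ne.symm hx) rfl (by rw [← mul_smul, hu, one_smul])

theorem two_fixed_le {g : G} {a b : Ω} (hab : a ≠ b) (ha : g • a = a) (hb : g • b = b) :
    2 ≤ fx Ω g := by
  haveI : Nontrivial {x : Ω // g • x = x} := ⟨⟨⟨a, ha⟩, ⟨b, hb⟩, fun e => hab (congrArg Subtype.val e)⟩⟩
  rw [fx, Nat.card_eq_fintype_card]
  exact Fintype.one_lt_card

theorem three_fixed_le {g : G} {a b c : Ω} (hab : a ≠ b) (hbc : b ≠ c) (hac : a ≠ c)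
    (ha : g • a = a) (hb : g • b = b) (hc : g • c = c) : 3 ≤ fx Ω g := by
  rw [fx, Nat.card_eq_fintype_card]
  exact Fintype.two_lt_card_iff.mpr ⟨⟨a, ha⟩, ⟨b, hb⟩, ⟨c, hc⟩,
    fun e => hab (congrArg Subtype.val e), fun e => hac (congrArg Subtype.val e),
    fun e => hbc (congrArg Subtype.val e)⟩

/-- When `i ≤ 1`, two-point stabilisers have odd order. -/
theorem two_odd (hi : i ≤ 1) {a b : Ω} (hab : a ≠ b) : Odd (Nat.card (Zass.two (G := G) a b)) := by
  rw [← Nat.not_even_iff_odd]
  intro he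
  haveI : Fact (Nat.Prime 2) := ⟨Nat.prime_two⟩
  obtain ⟨⟨x, hx⟩, hx2⟩ := exists_prime_orderOf_dvd_card' 2 (even_iff_two_dvd.mp he)
  replace hx2 : orderOf x = 2 := (Subgroup.orderOf_coe ⟨x, hx⟩).trans hx2
  have h1 : x * x = 1 := by
    have := pow_orderOf_eq_one x
    rwa [hx2, pow_two] at this
  have h2 : x ≠ 1 := fun e => by rw [e, orderOf_one] at hx2; omega
  have h3 := h.conj_fx (h.involution_conj h1 h2)
  have h4 := h.two_fixed_le hab (mem_two.mp hx).1 (mem_two.mp hx).2
  omega

end Hyp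

end Cfsg.Agent.InvFix
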