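import Cfsg.Agent.Lib.InvFix.Basic
import Mathlib.GroupTheory.PGroup

/-!
# An involution whose centraliser has constant fixity: at most two fixed points

If `i ≥ 3` the centraliser of `t` is an elementary abelian 2-group transitive on the fixed points, and
the fixed point sets of two-point stabilisers through a point show that `i - 1` divides a power of 2.
-/

set_option autoImplicit false
set_option linter.unusedSectionVars false
set_option linter.style.haveILetI false

namespace Cfsg.Agent.InvFix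

open MulAction Cfsg.Agent.Zass
open scoped Classical

universe u v

variable {G : Type u} [Group G] [Finite G] {Ω : Type v} [MulAction G Ω] [Fintype Ω]

theorem fix_of_le {g g' : G} (hsub : ∀ x : Ω, g • x = x → g' • x = x) (he : fx Ω g = fx Ω g')
    {x : Ω} (hx : g' • x = x) : g • x = x := by
  have hbij : Function.Bijective (Subtype.map id hsub : {x : Ω // g • x = x} → {x : Ω // g' • x = x}) :=
    (Nat.bijective_iff_injective_and_card _).mpr ⟨Subtype.map_injective _ Function.injective_id, he⟩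
  obtain ⟨⟨y, hy⟩, e⟩ := hbij.2 ⟨x, hx⟩
  have e' : y = x := congrArg Subtype.val e
  exact e' ▸ hy

namespace Hyp

variable {t : G} {i : ℕ} (h : Hyp G Ω t i)
include h

theorem fixes_of_comm {g : G} (hc : Commute g t) {x : Ω} (hx : t • x = x) : t • (g • x) = g • x := by
  rw [← mul_smul, ← hc.eq, mul_smul, hx]

theorem sq_ne_one {g : G} (hc : Commute g t) (hgg : g * g ≠ 1) {x : Ω} (hx : t • x = x) : g • x = x := by
  have hg1 : g ≠ 1 := fun e => hgg (by rw [e, mul_one])
  have htg : Commute (t * g) t := Commute.mul_left (Commute.refl t) hc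
  have e2 : t * g * (t * g) = g * g := by
    rw [mul_assoc t g, ← mul_assoc g t g, hc.eq, mul_assoc t g g, ← mul_assoc t t, h.mul_self, one_mul]
  have htg1 : t * g ≠ 1 := fun e => hgg (by rw [← e2, e, mul_one])
  have f0 := h.cent _ (hc.mul_left hc) hgg
  have f1 := h.cent g hc hg1
  have f2 := h.cent _ htg htg1
  have s1 : ∀ y : Ω, (g * g) • y = y → g • y = y := fun y hy =>
    fix_of_le (fun y hy => by rw [mul_smul, hy, hy]) (f1.trans f0.symm) hy
  have s2 : ∀ y : Ω, (g * g) • y = y → (t * g) • y = y := fun y hy =>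
    fix_of_le (fun y hy => by rw [← e2, mul_smul, hy, hy]) (f2.trans f0.symm) hy
  have s3 : ∀ y : Ω, g • y = y → t • y = y := fun y hy => by
    have := s2 y (by rw [mul_smul, hy, hy])
    rwa [mul_smul, hy] at this
  exact fix_of_le s3 (f1.trans h.fixt.symm) hx

theorem i_le_two : i ≤ 2 := by
  by_contra hi
  push Not at hi
  have hF : 2 < Fintype.card {x : Ω // t • x = x} := by
    rw [← Nat.card_eq_fintype_card]
    exact hi.trans_le h.fixt.ge
  obtain ⟨⟨p, hp⟩, ⟨q, hq⟩, ⟨r, hr⟩, hpq, hpr, hqr⟩ := Fintype.two_lt_card_iff.mp hF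
  simp only [ne_eq, Subtype.mk.injEq] at hpq hpr hqr
  -- a swapper of two fixed points of `t` commutes with `t`
  have swc : ∀ {u v : Ω}, u ≠ v → t • u = u → t • v = v → ∀ {s : G}, s • u = v → s • v = u →
      Commute s t := by
    intro u v huv hu hv s hsu hsv
    have e := h.swap_inverts huv hsu hsv (x := t) (mem_two.mpr ⟨hu, hv⟩)
    rw [inv_eq_of_mul_eq_one_right h.mul_self, mul_inv_eq_iff_eq_mul] at e
    exact e
  obtain ⟨s1, -, hs1p, hs1q⟩ := h.exists_swap hpq
  obtain ⟨s2, -, hs2q, hs2r⟩ := h.exists_swap hqr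
  have hs1 := swc hpq hp hq hs1p hs1q
  have hs2 := swc hqr hq hr hs2q hs2r
  -- the pointwise stabiliser has exponent two
  have hK : ∀ g : G, Commute g t → (∀ x : Ω, t • x = x → g • x = x) → g * g = 1 := by
    intro g hg hgF
    by_contra hgg
    have hinv : ∀ k : G, Commute k t → (∃ x : Ω, t • x = x ∧ k • x ≠ x) → k * g * k⁻¹ = g⁻¹ := by
      rintro k hk ⟨x, hx, hkx⟩
      have h1 : k * k = 1 := by_contra fun hkk => hkx (h.sq_ne_one hk hkk hx)
      have h2 : k * g * (k * g) = 1 := by_contra fun hkk => hkx (by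
        have := h.sq_ne_one (hk.mul_left hg) hkk hx
        rwa [mul_smul, hgF x hx] at this)
      rw [inv_eq_of_mul_eq_one_right h1]
      refine eq_inv_of_mul_eq_one_left ?_
      rw [mul_assoc]
      exact h2
    have e1 := hinv s1 hs1 ⟨p, hp, by rw [hs1p]; exact Ne.symm hpq⟩
    have e2 := hinv s2 hs2 ⟨q, hq, by rw [hs2q]; exact Ne.symm hqr⟩
    have e3 := hinv (s1 * s2) (hs1.mul_left hs2)
      ⟨r, hr, by rw [mul_smul, hs2r, hs1q]; exact hpr⟩
    have e4 : s1 * s2 * g * (s1 * s2)⁻¹ = (s1 * g * s1⁻¹)⁻¹ := by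
      rw [show s1 * s2 * g * (s1 * s2)⁻¹ = s1 * (s2 * g * s2⁻¹) * s1⁻¹ by group, e2]
      group
    rw [e3, e1, inv_inv] at e4
    exact hgg (mul_eq_one_iff_eq_inv.mpr e4.symm)
  have hC : ∀ g : G, Commute g t → g * g = 1 := fun g hg => by
    by_contra hgg
    exact hgg (hK g hg fun x hx => h.sq_ne_one hg hgg hx)
  have hcomm : ∀ g k : G, Commute g t → Commute k t → g * k = k * g := fun g k hg hk => by
    rw [← inv_eq_of_mul_eq_one_right (hC _ (hg.mul_left hk)), mul_inv_rev,
      inv_eq_of_mul_eq_one_right (hC g hg), inv_eq_of_mul_eq_one_right (hC k hk)]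
  -- an element of the centraliser fixing one fixed point fixes all
  have hD : ∀ g : G, Commute g t → ∀ {u : Ω}, t • u = u → g • u = u → ∀ v : Ω, t • v = v → g • v = v := by
    intro g hg u hu hgu v hv
    rcases eq_or_ne u v with rfl | huv
    · exact hgu
    obtain ⟨s, -, hsu, hsv⟩ := h.exists_swap huv
    rw [← hsu, ← mul_smul, hcomm g s hg (swc huv hu hv hsu hsv), mul_smul, hgu]
  have htwo : ∀ {u : Ω}, t • u = u → u ≠ p → ∀ g : G,
      g ∈ Zass.two p u ↔ Commute g t ∧ g • p = p := by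
    intro u hu hup g
    refine ⟨fun hg => ⟨h.two_comm (Ne.symm hup) hg (mem_two.mpr ⟨hp, hu⟩), (mem_two.mp hg).1⟩, ?_⟩
    rintro ⟨hg, hgp⟩
    exact mem_two.mpr ⟨hgp, hD g hg hp hgp u hu⟩
  -- orbit of the centraliser
  set C := Subgroup.centralizer ({t} : Set G) with hCdef
  have hmemC : ∀ {g : G}, g ∈ C ↔ Commute g t := fun {g} => Subgroup.mem_centralizer_singleton_iff
  have horb : MulAction.orbit C p = {x : Ω | t • x = x} := by
    ext x
    refine ⟨?_, fun hx => ?_⟩
    · rintro ⟨g, rfl⟩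
      exact h.fixes_of_comm (hmemC.mp g.2) hp
    · rcases eq_or_ne p x with rfl | hpx
      · exact MulAction.mem_orbit_self _
      obtain ⟨s, -, hsp, hsx⟩ := h.exists_swap hpx
      exact ⟨⟨s, hmemC.mpr (swc hpx hp hx hsp hsx)⟩, hsp⟩
  have hci : i ∣ Nat.card C := by
    have h1 := Subgroup.index_mul_card (MulAction.stabilizer C p)
    rw [MulAction.index_stabilizer, horb] at h1
    rw [← h1, ← h.fixt, fx, ← Nat.card_coe_set_eq]
    exact dvd_mul_right _ _
  haveI : Fact (Nat.Prime 2) := ⟨Nat.prime_two⟩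
  obtain ⟨k, hk⟩ := IsPGroup.iff_card.mp (show IsPGroup 2 C from fun g => ⟨1, Subtype.ext (by
    show ((g ^ 2 ^ 1 : C) : G) = 1
    rw [Subgroup.coe_pow, pow_one, pow_two]
    exact hC _ (hmemC.mp g.2))⟩)
  -- lines through `p`
  have hfib : ∀ x ∈ (Finset.univ.erase p).image fun u => Zass.two (G := G) p u,
      ((Finset.univ.erase p).filter fun u => Zass.two (G := G) p u = x).card = i - 1 := by
    intro x hx
    obtain ⟨u, hu, rfl⟩ := Finset.mem_image.mp hx
    have hup : u ≠ p := (Finset.mem_erase.mp hu).1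
    obtain ⟨g, hgp, hgq⟩ := h.move hpq (Ne.symm hup)
    have key : ∀ v : Ω, v ≠ p → (Zass.two (G := G) p v = Zass.two p q ↔ t • v = v) := fun v hv => by
      refine ⟨fun e => (mem_two.mp (e.symm ▸ mem_two.mpr ⟨hp, hq⟩ : t ∈ Zass.two p v)).2, fun hv' => ?_⟩
      ext a
      rw [htwo hv' hv, htwo hq (Ne.symm hpq)]
    have hconj : ∀ v : Ω, ∀ a : G, a ∈ Zass.two p (g • v) ↔ g⁻¹ * a * g ∈ Zass.two p v := fun v a => by
      simp only [mem_two, mul_smul, inv_smul_eq_iff, hgp]
    have e : ((Finset.univ.erase p).filter fun v => Zass.two (G := G) p v = Zass.two p u) =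
        ((Finset.univ.erase p).filter fun v => t • v = v).map ⟨(g • ·), MulAction.injective g⟩ := by
      ext w
      obtain ⟨v, rfl⟩ : ∃ v, g • v = w := ⟨g⁻¹ • w, smul_inv_smul _ _⟩
      have hgv : g • v ≠ p ↔ v ≠ p := by
        rw [not_iff_not]
        exact ⟨fun e => (smul_left_cancel_iff g).mp (e.trans hgp.symm), fun e => by rw [e, hgp]⟩
      rw [Finset.mem_filter, Finset.mem_erase,
        show g • v = (⟨(g • ·), MulAction.injective g⟩ : Ω ↪ Ω) v from rfl, Finset.mem_map',
        Finset.mem_filter, Finset.mem_erase]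
      simp only [Finset.mem_univ, and_true, Function.Embedding.coeFn_mk, hgv]
      refine and_congr_right fun hv => ?_
      rw [← key v hv, ← hgq, SetLike.ext_iff, SetLike.ext_iff]
      refine ⟨fun e a => ?_, fun e a => by rw [hconj, hconj, e]⟩
      have := e (g * a * g⁻¹)
      rwa [hconj, hconj, show g⁻¹ * (g * a * g⁻¹) * g = a by group] at this
    rw [e, Finset.card_map, Finset.filter_erase, Finset.card_erase_of_mem (by simp [hp])]
    congr 1
    rw [← h.fixt, fx, Nat.card_eq_fintype_card, Fintype.card_subtype]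
  have hsum := Finset.card_eq_sum_card_image (fun u => Zass.two (G := G) p u) (Finset.univ.erase p)
  rw [Finset.sum_congr rfl hfib, Finset.sum_const, smul_eq_mul,
    Finset.card_erase_of_mem (Finset.mem_univ p), Finset.card_univ, ← Nat.card_eq_fintype_card,
    h.card_eq, ← hCdef, hk, show i + 2 ^ k - 1 = (i - 1) + 2 ^ k by omega] at hsum
  have hd1 : i - 1 ∣ 2 ^ k := (Nat.dvd_add_right dvd_rfl).mp ⟨_, hsum.trans (mul_comm _ _)⟩
  rw [hk] at hci
  obtain ⟨a, -, ha⟩ := (Nat.dvd_prime_pow Nat.prime_two).mp hd1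
  obtain ⟨b, -, hb⟩ := (Nat.dvd_prime_pow Nat.prime_two).mp hci
  rcases Nat.eq_zero_or_pos a with rfl | ha'
  · rw [pow_zero] at ha
    omega
  rcases Nat.eq_zero_or_pos b with rfl | hb'
  · rw [pow_zero] at hb
    omega
  obtain ⟨a', rfl⟩ := Nat.exists_eq_add_of_le ha'
  obtain ⟨b', rfl⟩ := Nat.exists_eq_add_of_le hb'
  rw [pow_add, pow_one] at ha hb
  omega

theorem three_of_i_two (hi : i = 2) {g : G} {a b c : Ω} (hab : a ≠ b) (hbc : b ≠ c) (hac : a ≠ c)
    (ha : g • a = a) (hb : g • b = b) (hc : g • c = c) : g = 1 := by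
  by_contra hg
  have hF : 1 < Fintype.card {x : Ω // t • x = x} := by
    rw [← Nat.card_eq_fintype_card]
    exact (show 1 < i by omega).trans_le h.fixt.ge
  obtain ⟨⟨p, hp⟩, ⟨q, hq⟩, hpq⟩ := Fintype.one_lt_card_iff.mp hF
  simp only [ne_eq, Subtype.mk.injEq] at hpq
  obtain ⟨x, hxp, hxq⟩ := h.move hpq hab
  have hmem : x⁻¹ * g * x ∈ Zass.two p q := mem_two.mpr
    ⟨by rw [mul_smul, mul_smul, hxp, ha, inv_smul_eq_iff, hxp],
     by rw [mul_smul, mul_smul, hxq, hb, inv_smul_eq_iff, hxq]⟩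
  have hcm : Commute (x⁻¹ * g * x) t := h.two_comm hpq hmem (mem_two.mpr ⟨hp, hq⟩)
  have h1 := h.cent _ hcm (fun e => hg (by
    rw [show g = x * (x⁻¹ * g * x) * x⁻¹ by group, e, mul_one, mul_inv_cancel]))
  have h2 : fx Ω g = fx Ω (x⁻¹ * g * x) := by
    conv_lhs => rw [show g = x * (x⁻¹ * g * x) * x⁻¹ by group]
    rw [fx_conj]
  have h3 := h.three_fixed_le hab hbc hac ha hb hc
  omega

end Hyp

end Cfsg.Agent.InvFix
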