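import Cfsg.Agent.Lib.InvFix.Three
import Cfsg.Agent.Lib.SzRecog.Main

/-!
# An involution whose centraliser has constant fixity: classification
-/

set_option autoImplicit false
set_option linter.unusedSectionVars false
set_option linter.style.haveILetI false

namespace Cfsg.Agent.InvFix

open MulAction Cfsg.Agent.Zass
open scoped Classical

universe u v

variable {G : Type u} [Group G] [Finite G] {Ω : Type v} [MulAction G Ω] [Fintype Ω]

/-- A regular normal subgroup. -/
def HasRegNormal (G : Type u) [Group G] (Ω : Type v) [MulAction G Ω] : Prop :=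
  ∃ R : Subgroup G, R.Normal ∧ (∀ x y : Ω, ∃ r ∈ R, r • x = y) ∧ ∀ x : Ω, ∀ r ∈ R, r • x = x → r = 1

/-- A transitive normal subgroup acting as a Frobenius group has a regular kernel. -/
theorem regNormal_of_frobenius (N : Subgroup G) [N.Normal] (htr : ∀ x y : Ω, ∃ n ∈ N, n • x = y)
    (hfr : ∀ n ∈ N, n ≠ 1 → ∀ x y : Ω, n • x = x → n • y = y → x = y) (a : Ω) : HasRegNormal G Ω := by
  have hmal : Cfsg.Agent.Char.Malnormal (MulAction.stabilizer N a) := by
    intro n hn x hx hnx
    by_contra hx1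
    have hx' : (x : G) • a = a := hx
    have hnx' : ((n * x * n⁻¹ : N) : G) • a = a := hnx
    have h2 : (x : G) • ((n : G)⁻¹ • a) = (n : G)⁻¹ • a := by
      simp only [Subgroup.coe_mul, Subgroup.coe_inv, mul_smul] at hnx'
      exact (eq_inv_smul_iff).mpr hnx'
    have e := hfr x x.2 (fun e => hx1 (Subtype.ext e)) _ _ hx' h2
    exact hn (show (n : G) • a = a from (inv_smul_eq_iff.mp e.symm).symm)
  obtain ⟨K, -, -, hcompl, hmem⟩ := Cfsg.Agent.Char.exists_frobenius_kernel hmal
  have hfree : ∀ k ∈ K, k ≠ 1 → ∀ x : Ω, (k : G) • x ≠ x := by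
    intro k hk hk1 x hx
    obtain ⟨n, hn, hnx⟩ := htr a x
    rcases (hmem k).mp hk with e | e
    · exact hk1 e
    · refine e ⟨n, hn⟩ ?_
      show ((⟨n, hn⟩⁻¹ * k * ⟨n, hn⟩ : N) : G) • a = a
      simp only [Subgroup.coe_mul, Subgroup.coe_inv, mul_smul]
      rw [hnx, hx, inv_smul_eq_iff, hnx]
  have hfree' : ∀ k : N, (∀ x : Ω, (k : G) • x ≠ x) → k ∈ K := fun k hk =>
    (hmem k).mpr (Or.inr fun n hn => hk ((n : G) • a) (by
      have e : ((n⁻¹ * k * n : N) : G) • a = a := hn
      simp only [Subgroup.coe_mul, Subgroup.coe_inv, mul_smul] at e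
      exact inv_smul_eq_iff.mp e))
  refine ⟨K.map N.subtype, ⟨?_⟩, fun x y => ?_, ?_⟩
  · rintro _ ⟨k, hk, rfl⟩ g
    rcases eq_or_ne k 1 with rfl | hk1
    · exact ⟨1, K.one_mem, by simp⟩
    refine ⟨⟨g * k * g⁻¹, Subgroup.Normal.conj_mem inferInstance _ k.2 g⟩, hfree' _ fun x hx => ?_, rfl⟩
    refine hfree k hk hk1 (g⁻¹ • x) ?_
    have hx' : (g * (k : G) * g⁻¹) • x = x := hx
    rw [mul_smul, mul_smul] at hx'
    exact eq_inv_smul_iff.mpr hx'
  · obtain ⟨n, hn, hnx⟩ := htr a x
    obtain ⟨m, hm, hmy⟩ := htr a y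
    obtain ⟨⟨⟨k₁, hk₁⟩, ⟨s₁, hs₁⟩⟩, e₁⟩ := hcompl.2 ⟨n, hn⟩
    obtain ⟨⟨⟨k₂, hk₂⟩, ⟨s₂, hs₂⟩⟩, e₂⟩ := hcompl.2 ⟨m, hm⟩
    have a1 : (k₁ : G) • a = x := by
      have := congrArg (fun w : N => (w : G) • a) e₁
      simp only [Subgroup.coe_mul, mul_smul] at this
      rwa [show (s₁ : G) • a = a from hs₁, hnx] at this
    have a2 : (k₂ : G) • a = y := by
      have := congrArg (fun w : N => (w : G) • a) e₂
      simp only [Subgroup.coe_mul, mul_smul] at this
      rwa [show (s₂ : G) • a = a from hs₂, hmy] at this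
    refine ⟨_, ⟨k₂ * k₁⁻¹, K.mul_mem hk₂ (K.inv_mem hk₁), rfl⟩, ?_⟩
    show ((k₂ * k₁⁻¹ : N) : G) • x = y
    simp only [Subgroup.coe_mul, Subgroup.coe_inv, mul_smul]
    rw [← a1, inv_smul_smul, a2]
  · rintro x _ ⟨k, hk, rfl⟩ hx
    by_contra hk1
    exact hfree k hk (fun e => hk1 (by rw [e, map_one])) x hx

namespace Hyp

variable {t : G} {i : ℕ} (h : Hyp G Ω t i)
include h

theorem not_reg_zassenhaus (hR : ¬ HasRegNormal G Ω) : Cfsg.IsZassenhausGroup G Ω := by
  haveI := h.two
  haveI : MulAction.IsPretransitive G Ω := MulAction.isPretransitive_of_is_two_pretransitive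
  refine ⟨h.faith, h.two, fun g a b c h1 h2 h3 h4 h5 h6 => h.three h1 h2 h3 h4 h5 h6, ?_, ?_⟩
  · by_contra hno
    push Not at hno
    obtain ⟨a, -⟩ := h.exists_moved
    exact hR (regNormal_of_frobenius (⊤ : Subgroup G)
      (fun x y => (MulAction.exists_smul_eq G x y).imp fun g hg => ⟨Subgroup.mem_top g, hg⟩)
      (fun n _ hn1 x y hx hy => by
        by_contra hxy
        exact hno n hn1 x y hxy hx hy) a)
  · intro N hN hNt
    by_contra hno
    push Not at hno
    refine hR ⟨N, hN, fun x y => ?_, fun x r hr hrx => ?_⟩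
    · obtain ⟨n, hn⟩ := MulAction.exists_smul_eq N x y
      exact ⟨n, n.2, hn⟩
    · have hm : (⟨r, hr⟩ : N) ∈ MulAction.stabilizer N x := hrx
      rw [hno x, Subgroup.mem_bot] at hm
      exact congrArg Subtype.val hm

theorem isSimple (hR : ¬ HasRegNormal G Ω) : IsSimpleGroup G := by
  have hZ := h.not_reg_zassenhaus hR
  haveI := h.two
  haveI := h.faith
  haveI : MulAction.IsPreprimitive G Ω := MulAction.isPreprimitive_of_is_two_pretransitive h.two
  haveI : Nontrivial G := ⟨⟨t, 1, h.ne_one⟩⟩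
  refine ⟨fun N hN => ?_⟩
  by_cases hN1 : N = ⊥
  · exact Or.inl hN1
  right
  haveI := hN
  have hNtr : MulAction.IsPretransitive N Ω := by
    refine MulAction.IsQuasiPreprimitive.isPretransitive_of_normal fun hfix => hN1 ?_
    refine (Subgroup.eq_bot_iff_forall _).mpr fun n hn => h.faith.eq_of_smul_eq_smul fun x : Ω => ?_
    rw [one_smul]
    exact (Set.eq_univ_iff_forall.mp hfix x) ⟨n, hn⟩
  -- `N` contains an involution
  obtain ⟨u, hu, huu, hu1⟩ : ∃ u ∈ N, u * u = 1 ∧ u ≠ 1 := by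
    by_contra hno
    push Not at hno
    have hoddN : Odd (Nat.card N) := by
      rw [← Nat.not_even_iff_odd]
      intro he
      haveI : Fact (Nat.Prime 2) := ⟨Nat.prime_two⟩
      obtain ⟨w, hw⟩ := exists_prime_orderOf_dvd_card' 2 (even_iff_two_dvd.mp he)
      have h1 : w * w = 1 := by
        have := pow_orderOf_eq_one w
        rwa [hw, pow_two] at this
      have := hno w w.2 (congrArg Subtype.val h1)
      rw [show w = 1 from Subtype.ext this, orderOf_one] at hw
      omega
    obtain ⟨a, ha⟩ := hZ.2.2.2.2 N hN hNtr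
    refine hR (regNormal_of_frobenius N (fun x y =>
      let ⟨n, hn⟩ := MulAction.exists_smul_eq N x y
      ⟨n, n.2, hn⟩) (fun n hn hn1 x y hx hy => ?_) a)
    by_contra hxy
    obtain ⟨s, hs, hsx, hsy⟩ := h.exists_swap hxy
    -- the point stabiliser of `N` centralises the involutions of the point stabiliser of `G`
    have hxn : n ∈ Zass.two x y := mem_two.mpr ⟨hx, hy⟩
    have hi : i ≤ 1 := by
      by_contra hi
      push Not at hi
      have h2 : 2 ∣ Nat.card Ω := by
        have hc : 2 ∣ Nat.card (Subgroup.centralizer ({t} : Set G)) := by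
          have := Subgroup.orderOf_dvd_natCard (Subgroup.centralizer ({t} : Set G))
            (x := t) (Subgroup.mem_centralizer_singleton_iff.mpr rfl)
          rwa [h.ord] at this
        rw [h.card_eq, show i = 2 from le_antisymm h.i_le_two hi]
        exact dvd_add dvd_rfl hc
      have h3 : Nat.card Ω ∣ Nat.card N := by
        rw [← Subgroup.index_mul_card (MulAction.stabilizer N x), MulAction.index_stabilizer,
          MulAction.orbit_eq_univ, Set.ncard_univ]
        exact dvd_mul_right _ _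
      exact (Nat.not_even_iff_odd.mpr hoddN) (even_iff_two_dvd.mpr (h2.trans h3))
    rcases Nat.eq_zero_or_pos i with hi0 | hipos
    · have h2 : 2 ∣ Nat.card Ω := by
        have hc : 2 ∣ Nat.card (Subgroup.centralizer ({t} : Set G)) := by
          have := Subgroup.orderOf_dvd_natCard (Subgroup.centralizer ({t} : Set G))
            (x := t) (Subgroup.mem_centralizer_singleton_iff.mpr rfl)
          rwa [h.ord] at this
        rw [h.card_eq, hi0, zero_add]
        exact hc
      have h3 : Nat.card Ω ∣ Nat.card N := by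
        rw [← Subgroup.index_mul_card (MulAction.stabilizer N x), MulAction.index_stabilizer,
          MulAction.orbit_eq_univ, Set.ncard_univ]
        exact dvd_mul_right _ _
      exact (Nat.not_even_iff_odd.mpr hoddN) (even_iff_two_dvd.mpr (h2.trans h3))
    -- `i = 1`
    have hi1 : i = 1 := by omega
    have hone : ∀ {s' : G}, IsConj t s' → ∀ {p q : Ω}, s' • p = p → s' • q = q → p = q :=
      fun {s'} hs' {p q} hp hq => by
        by_contra hpq
        have := h.conj_fx hs'
        have := h.two_fixed_le hpq hp hq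
        omega
    obtain ⟨s₀, hs₀, hs₀x⟩ : ∃ s₀, IsConj t s₀ ∧ s₀ • x = x := by
      have hpos : 0 < fx Ω t := by rw [h.fixt]; exact hipos
      obtain ⟨⟨c, hc⟩⟩ := (Nat.card_pos_iff.mp hpos).1
      obtain ⟨k, hk⟩ := MulAction.exists_smul_eq G c x
      refine ⟨k * t * k⁻¹, isConj_iff.mpr ⟨k, rfl⟩, ?_⟩
      rw [mul_smul, mul_smul, show k⁻¹ • x = c by rw [inv_smul_eq_iff, hk], hc, hk]
    obtain ⟨K, hKle, hKcard, hKmem⟩ := Zass.exists_kernel hZ hxy
    have hcK : ∀ {s' : G}, IsConj t s' → s' • x = x →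
        Subgroup.centralizer ({s'} : Set G) = K := by
      intro s' hs' hs'x
      have hle : Subgroup.centralizer ({s'} : Set G) ≤ K := by
        intro k hk
        have hks := Subgroup.mem_centralizer_singleton_iff.mp hk
        have hkx : k • x = x := hone hs' (by rw [← mul_smul, ← hks, mul_smul, hs'x]) hs'x
        refine (hKmem k hkx).mpr ((eq_or_ne k 1).imp id fun hk1 c hc => ?_)
        by_contra hcx
        have := h.fx_of_comm hs' hks hk1
        have := h.two_fixed_le hcx hc hkx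
        omega
      obtain ⟨k, rfl⟩ := isConj_iff.mp hs'
      refine Subgroup.eq_of_le_of_card_ge hle ?_
      have e : Nat.card (Subgroup.centralizer ({k * t * k⁻¹} : Set G)) =
          Nat.card (Subgroup.centralizer ({t} : Set G)) := by
        refine (Nat.card_congr ((MulAut.conj k).toEquiv.subtypeEquiv fun g => ?_)).symm
        show g ∈ Subgroup.centralizer ({t} : Set G) ↔ k * g * k⁻¹ ∈ Subgroup.centralizer ({k * t * k⁻¹} : Set G)
        rw [Subgroup.mem_centralizer_singleton_iff, Subgroup.mem_centralizer_singleton_iff,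
          show k * g * k⁻¹ * (k * t * k⁻¹) = k * (g * t) * k⁻¹ by group,
          show k * t * k⁻¹ * (k * g * k⁻¹) = k * (t * g) * k⁻¹ by group]
        exact ⟨fun e => by rw [e], fun e => mul_left_cancel (mul_right_cancel e)⟩
      have h2 := h.card_eq
      rw [Nat.card_eq_fintype_card] at h2
      rw [e]
      omega
    have hconj : IsConj t (n * s₀ * n⁻¹) := hs₀.trans (isConj_iff.mpr ⟨n, rfl⟩)
    have hfixx : (n * s₀ * n⁻¹) • x = x := by
      rw [mul_smul, mul_smul, show n⁻¹ • x = x by rw [inv_smul_eq_iff, hx], hs₀x, hx]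
    have hcomm : s₀ * (n * s₀ * n⁻¹) = n * s₀ * n⁻¹ * s₀ := by
      have : n * s₀ * n⁻¹ ∈ Subgroup.centralizer ({s₀} : Set G) := by
        rw [hcK hs₀ hs₀x, ← hcK hconj hfixx]
        exact Subgroup.mem_centralizer_singleton_iff.mpr rfl
      exact (Subgroup.mem_centralizer_singleton_iff.mp this).symm
    have hw : (n * s₀ * n⁻¹ * s₀) * (n * s₀ * n⁻¹ * s₀) = 1 := by
      nth_rw 2 [← hcomm]
      rw [mul_assoc, ← mul_assoc s₀ s₀, h.conj_mul_self hs₀, one_mul, h.conj_mul_self hconj]
    have hwN : n * s₀ * n⁻¹ * s₀ ∈ N := by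
      rw [show n * s₀ * n⁻¹ * s₀ = n * (s₀ * n⁻¹ * s₀) by group]
      refine N.mul_mem hn ?_
      have := hN.conj_mem _ (N.inv_mem hn) s₀
      rwa [inv_eq_of_mul_eq_one_right (h.conj_mul_self hs₀)] at this
    have hw1 : n * s₀ * n⁻¹ * s₀ = 1 := hno _ hwN hw
    have hc : Commute n s₀ := by
      rw [mul_eq_one_iff_eq_inv, inv_eq_of_mul_eq_one_right (h.conj_mul_self hs₀),
        mul_inv_eq_iff_eq_mul] at hw1
      exact hw1
    have := h.fx_of_comm hs₀ hc hn1
    have := h.two_fixed_le hxy hx hy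
    omega
  have hTN : ∀ s, IsConj t s → s ∈ N := fun s hs => by
    obtain ⟨k, hk⟩ := isConj_iff.mp ((h.involution_conj huu hu1).symm.trans hs)
    exact hk ▸ hN.conj_mem u hu k
  have h2N : ∀ {p q : Ω}, p ≠ q → Zass.two (G := G) p q ≤ N := fun {p q} hpq e he => by
    obtain ⟨s, hs, hsp, hsq⟩ := h.exists_swap hpq
    have := hTN _ (h.swap_conj hpq (g := s * e) (by rw [mul_smul, (mem_two.mp he).1, hsp])
      (by rw [mul_smul, (mem_two.mp he).2, hsq]))
    exact (N.mul_mem_cancel_left (hTN _ hs)).mp this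
  obtain ⟨d, hd1, a, b, hab, hda, hdb⟩ := hZ.2.2.2.1
  obtain ⟨K, hKle, hKcard, hKmem⟩ := Zass.exists_kernel hZ hab
  have hKd : d ∉ K := fun hdK => by
    rcases (hKmem d hda).mp hdK with e | e
    · exact hd1 e
    · exact hab (e b hdb).symm
  have hKn : ∀ k ∈ K, ∀ g ∈ MulAction.stabilizer G a, g * k * g⁻¹ ∈ K := by
    intro k hk g hg
    have hgk : g * k * g⁻¹ ∈ MulAction.stabilizer G a :=
      Subgroup.mul_mem _ (Subgroup.mul_mem _ hg (hKle hk)) (Subgroup.inv_mem _ hg)
    refine (hKmem _ hgk).mpr (((hKmem k (hKle hk)).mp hk).imp (fun e => by rw [e]; group) fun e c hc => ?_)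
    rw [mul_smul, mul_smul, ← eq_inv_smul_iff] at hc
    have := e _ hc
    rwa [inv_smul_eq_iff, show g • a = a from hg] at this
  have hda' : d ∈ MulAction.stabilizer G a := hda
  have hKN : K ≤ N := by
    let f : K → K := fun k => ⟨k * (d * k.1⁻¹ * d⁻¹), K.mul_mem k.2 (hKn _ (K.inv_mem k.2) d hda')⟩
    have hf : Function.Injective f := by
      intro k k' e
      have e' : (k : G) * (d * (k : G)⁻¹ * d⁻¹) = k' * (d * (k' : G)⁻¹ * d⁻¹) := congrArg Subtype.val e
      have hc : ((k' : G)⁻¹ * k) * d = d * ((k' : G)⁻¹ * k) := by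
        calc ((k' : G)⁻¹ * k) * d = (k' : G)⁻¹ * ((k : G) * (d * (k : G)⁻¹ * d⁻¹)) * d * k := by group
          _ = (k' : G)⁻¹ * ((k' : G) * (d * (k' : G)⁻¹ * d⁻¹)) * d * k := by rw [e']
          _ = d * ((k' : G)⁻¹ * k) := by group
      set m := (k' : G)⁻¹ * k
      have hmK : m ∈ K := K.mul_mem (K.inv_mem k'.2) k.2
      have hma : m • a = a := hKle hmK
      have hmb : d • (m • b) = m • b := by rw [← mul_smul, ← hc, mul_smul, hdb]
      rcases (hKmem m hma).mp hmK with e1 | e1
      · exact Subtype.ext (inv_mul_eq_one.mp e1).symm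
      · exfalso
        have hne : m • b ≠ b := fun e2 => hab (e1 b e2).symm
        have hne' : a ≠ m • b := fun e2 => hab ((smul_left_cancel_iff m).mp (hma.trans e2))
        exact hd1 (h.three hab (Ne.symm hne) hne' hda hdb hmb)
    intro k hk
    obtain ⟨k0, e⟩ := (Finite.injective_iff_surjective.mp hf) ⟨k, hk⟩
    rw [show k = k0.1 * (d * k0.1⁻¹ * d⁻¹) from (congrArg Subtype.val e).symm,
      show k0.1 * (d * k0.1⁻¹ * d⁻¹) = k0.1 * d * k0.1⁻¹ * d⁻¹ by group]
    exact N.mul_mem (hN.conj_mem _ (h2N hab (mem_two.mpr ⟨hda, hdb⟩)) _)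
      (N.inv_mem (h2N hab (mem_two.mpr ⟨hda, hdb⟩)))
  have hst : MulAction.stabilizer G a ≤ N := fun g hg => by
    by_cases hgK : g ∈ K
    · exact hKN hgK
    have hga : g • a = a := hg
    have : ¬ ∀ c : Ω, g • c = c → c = a := fun e => hgK ((hKmem g hg).mpr (Or.inr e))
    push Not at this
    obtain ⟨c, hc, hca⟩ := this
    exact h2N (Ne.symm hca) (mem_two.mpr ⟨hga, hc⟩)
  refine (Subgroup.eq_top_iff' N).mpr fun g => ?_
  obtain ⟨n, hn⟩ := MulAction.exists_smul_eq N a (g • a)
  have : (n : G)⁻¹ * g ∈ MulAction.stabilizer G a := by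
    rw [MulAction.mem_stabilizer_iff, mul_smul, inv_smul_eq_iff]
    exact hn.symm
  exact (N.mul_mem_cancel_left (N.inv_mem n.2)).mp (hst this)

theorem classify :
    (∃ (F : Type) (_ : Field F) (_ : Fintype F),
      Nonempty (G ≃* Matrix.ProjectiveSpecialLinearGroup (Fin 2) F)) ∨ Cfsg.Lie.IsoSuzuki G ∨
      HasRegNormal G Ω := by
  by_cases hR : HasRegNormal G Ω
  · exact Or.inr (Or.inr hR)
  haveI := h.isSimple hR
  exact (SzRecog.classification (h.not_reg_zassenhaus hR)).imp id Or.inl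

end Hyp

end Cfsg.Agent.InvFix
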