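import Cfsg.Agent.Lib.InvFix.Big

/-!
# An involution whose centraliser has constant fixity: three-point stabilisers are trivial

For `i ≤ 1` take a subgroup `A` of a two-point stabiliser with the smallest fixed point set `F` of
size at least 3; the centraliser of `A` has odd order and the involutions inverting `A` lead to a
contradiction.
-/

set_option autoImplicit false
set_option linter.unusedSectionVars false
set_option linter.style.haveILetI false

namespace Cfsg.Agent.InvFix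

open MulAction Cfsg.Agent.Zass
open scoped Classical

universe u v

variable {G : Type u} [Group G] [Finite G] {Ω : Type v} [MulAction G Ω] [Fintype Ω]

/-- The points fixed by all elements of `A`. -/
noncomputable def fixA (Ω : Type v) [MulAction G Ω] [Fintype Ω] (A : Subgroup G) : Finset Ω :=
  Finset.univ.filter fun x => ∀ g ∈ A, g • x = x

theorem mem_fixA {A : Subgroup G} {x : Ω} : x ∈ fixA Ω A ↔ ∀ g ∈ A, g • x = x := by
  simp [fixA]

/-- `g` centralises `A`. -/
def Cn (A : Subgroup G) (g : G) : Prop := ∀ x ∈ A, g * x * g⁻¹ = x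

/-- `g` inverts `A`. -/
def Inv' (A : Subgroup G) (g : G) : Prop := ∀ x ∈ A, g * x * g⁻¹ = x⁻¹

theorem Cn.mul {A : Subgroup G} {g k : G} (hg : Cn A g) (hk : Cn A k) : Cn A (g * k) := fun x hx => by
  rw [show g * k * x * (g * k)⁻¹ = g * (k * x * k⁻¹) * g⁻¹ by group, hk x hx, hg x hx]

theorem Cn.inv {A : Subgroup G} {g : G} (hg : Cn A g) : Cn A g⁻¹ := fun x hx => by
  conv_lhs => rw [← hg x hx]
  group

theorem Cn.pow {A : Subgroup G} {g : G} (hg : Cn A g) (n : ℕ) : Cn A (g ^ n) := by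
  induction n with
  | zero => intro x _; simp
  | succ n ih => rw [pow_succ]; exact ih.mul hg

theorem Inv'.mul_cn {A : Subgroup G} {g k : G} (hg : Inv' A g) (hk : Cn A k) : Inv' A (g * k) :=
  fun x hx => by rw [show g * k * x * (g * k)⁻¹ = g * (k * x * k⁻¹) * g⁻¹ by group, hk x hx, hg x hx]

theorem Cn.mul_inv' {A : Subgroup G} {g k : G} (hg : Cn A g) (hk : Inv' A k) : Inv' A (g * k) :=
  fun x hx => by
    rw [show g * k * x * (g * k)⁻¹ = g * (k * x * k⁻¹) * g⁻¹ by group, hk x hx,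
      hg _ (A.inv_mem hx)]

theorem Inv'.mul {A : Subgroup G} {g k : G} (hg : Inv' A g) (hk : Inv' A k) : Cn A (g * k) :=
  fun x hx => by
    rw [show g * k * x * (g * k)⁻¹ = g * (k * x * k⁻¹) * g⁻¹ by group, hk x hx,
      hg _ (A.inv_mem hx), inv_inv]

theorem cn_preserves {A : Subgroup G} {g : G} (hg : Cn A g ∨ Inv' A g) {p : Ω} (hp : p ∈ fixA Ω A) :
    g • p ∈ fixA Ω A := by
  rw [mem_fixA] at hp ⊢
  intro x hx
  have hm : g⁻¹ * x * g ∈ A := by
    rcases hg with hg | hg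
    · have e := hg x hx
      rw [show g⁻¹ * x * g = x by rw [mul_inv_eq_iff_eq_mul] at e; rw [mul_assoc, ← e, inv_mul_cancel_left]]
      exact hx
    · have e := hg x⁻¹ (A.inv_mem hx)
      rw [inv_inv] at e
      rw [show g⁻¹ * x * g = x⁻¹ by conv_lhs => rw [← e]
                                    group]
      exact A.inv_mem hx
  have e := hp _ hm
  rwa [mul_smul, mul_smul, inv_smul_eq_iff] at e

namespace Hyp

variable {t : G} {i : ℕ} (h : Hyp G Ω t i)
include h

theorem three_of_small (hi : i ≤ 1) {g : G} {a b c : Ω} (hab : a ≠ b) (hbc : b ≠ c) (hac : a ≠ c)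
    (ha : g • a = a) (hb : g • b = b) (hc : g • c = c) : g = 1 := by
  by_contra hg
  let P : ℕ → Prop := fun n => ∃ (A : Subgroup G) (u v : Ω), u ≠ v ∧ A ≤ Zass.two u v ∧
    (∃ x ∈ A, x ≠ 1) ∧ 3 ≤ (fixA Ω A).card ∧ (fixA Ω A).card = n
  have hex : ∃ n, P n := by
    refine ⟨_, Subgroup.zpowers g, a, b, hab, ?_, ⟨g, Subgroup.mem_zpowers g, hg⟩, ?_, rfl⟩
    · exact Subgroup.zpowers_le.mpr (mem_two.mpr ⟨ha, hb⟩)
    · refine Finset.two_lt_card.mpr ⟨a, ?_, b, ?_, c, ?_, hab, hac, hbc⟩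
      all_goals
        rw [mem_fixA]
        intro k hk
        exact Subgroup.zpowers_le.mpr (show g ∈ MulAction.stabilizer G _ by assumption) hk
  obtain ⟨A, u₀, v₀, huv, hA, ⟨x₀, hx₀, hx₀1⟩, hF3, hFn⟩ := Nat.find_spec hex
  set F := fixA Ω A with hFdef
  have hmin : ∀ (B : Subgroup G) (u v : Ω), u ≠ v → B ≤ Zass.two u v → (∃ x ∈ B, x ≠ 1) →
      3 ≤ (fixA Ω B).card → F.card ≤ (fixA Ω B).card := fun B u v h1 h2 h3 h4 =>
    hFn.le.trans (Nat.find_min' hex ⟨B, u, v, h1, h2, h3, h4, rfl⟩)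
  have hx₀F : 3 ≤ fx Ω x₀ := by
    refine hF3.trans ?_
    rw [fx, Nat.card_eq_fintype_card, Fintype.card_subtype]
    exact Finset.card_le_card fun y hy => Finset.mem_filter.mpr ⟨Finset.mem_univ y, mem_fixA.mp hy x₀ hx₀⟩
  have nocomm : ∀ s : G, IsConj t s → Commute x₀ s → False := fun s hs hcm => by
    have := h.fx_of_comm hs hcm hx₀1
    omega
  have hsub : ∀ {p q : Ω}, p ∈ F → q ∈ F → A ≤ Zass.two p q := fun {p q} hp hq x hx =>
    mem_two.mpr ⟨mem_fixA.mp hp x hx, mem_fixA.mp hq x hx⟩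
  have hswap : ∀ {p q : Ω}, p ∈ F → q ∈ F → p ≠ q → ∀ {s : G}, s • p = q → s • q = p → Inv' A s :=
    fun hp hq hpq _ hsp hsq x hx => h.swap_inverts hpq hsp hsq (hsub hp hq hx)
  have hcn2 : ∀ {p q : Ω}, p ∈ F → q ∈ F → p ≠ q → ∀ {e : G}, e ∈ Zass.two p q → Cn A e :=
    fun hp hq hpq e he x hx => by rw [h.two_comm hpq he (hsub hp hq hx), mul_inv_cancel_right]
  -- `C(A)` has odd order
  have hodd : ∀ {k : G}, Cn A k → Odd (orderOf k) := by
    intro k hk
    rw [← Nat.not_even_iff_odd]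
    rintro ⟨m, hm⟩
    have hpos := orderOf_pos k
    have h1 : k ^ m * k ^ m = 1 := by rw [← pow_add, ← hm, pow_orderOf_eq_one]
    have h2 : k ^ m ≠ 1 := pow_ne_one_of_lt_orderOf (by omega) (by omega)
    refine nocomm _ (h.involution_conj h1 h2) ?_
    have e := hk.pow m x₀ hx₀
    rw [mul_inv_eq_iff_eq_mul] at e
    exact e.symm
  -- an element inverting `A` gives an involution
  have hinvol : ∀ {k : G}, Inv' A k → ∀ {p : Ω}, k • p = p →
      ∃ u : G, u * u = 1 ∧ u ≠ 1 ∧ Inv' A u ∧ u • p = p := by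
    intro k hk p hp
    obtain ⟨l, hl⟩ := hodd (hk.mul hk)
    refine ⟨k ^ orderOf (k * k), ?_, ?_, ?_, ?_⟩
    · rw [← (Commute.refl k).mul_pow, pow_orderOf_eq_one]
    · intro e
      have hku : Inv' A (k ^ orderOf (k * k)) := by
        rw [hl, pow_succ, pow_mul, pow_two]
        exact ((hk.mul hk).pow l).mul_inv' hk
      have e2 := hku x₀ hx₀
      rw [e, one_mul, inv_one, mul_one, eq_inv_iff_mul_eq_one] at e2
      exact nocomm x₀ (h.involution_conj e2 hx₀1) (Commute.refl _)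
    · rw [hl, pow_succ, pow_mul, pow_two]
      exact ((hk.mul hk).pow l).mul_inv' hk
    · exact Subgroup.pow_mem (MulAction.stabilizer G p) hp _
  by_cases hcen : ∃ τ x, τ * τ = 1 ∧ τ ≠ 1 ∧ Inv' A τ ∧ x ∈ F ∧ τ • x = x
  swap
  · -- the centraliser fixes `F` pointwise
    have hfix : ∀ k : G, Cn A k → ∀ p ∈ F, k • p = p := by
      intro k hk p hp
      by_contra hkp
      have hq := cn_preserves (Or.inl hk) hp
      obtain ⟨s, -, hsp, hsq⟩ := h.exists_swap (Ne.symm hkp)
      obtain ⟨u, hu1, hu2, hu3, hu4⟩ := hinvol ((hswap hp hq (Ne.symm hkp) hsp hsq).mul_cn hk)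
        (p := p) (by rw [mul_smul, hsq])
      exact hcen ⟨u, p, hu1, hu2, hu3, hp, hu4⟩
    obtain ⟨p, hp, q, hq, r, hr, hpq, hpr, hqr⟩ := Finset.two_lt_card.mp hF3
    obtain ⟨s, -, hsp, hsq⟩ := h.exists_swap hpq
    obtain ⟨s', -, hs'p, hs'r⟩ := h.exists_swap hpr
    have := hfix _ ((hswap hp hq hpq hsp hsq).mul (hswap hp hr hpr hs'p hs'r)) r hr
    rw [mul_smul, hs'r, hsp] at this
    exact hqr this
  obtain ⟨τ, x, hττ, hτ1, hτA, hxF, hτx⟩ := hcen
  have hτT := h.involution_conj hττ hτ1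
  have hτfx := h.conj_fx hτT
  have honly : ∀ y, τ • y = y → y = x := fun y hy => by
    by_contra hyx
    have := h.two_fixed_le hyx hy hτx
    omega
  have hi1 : i = 1 := by
    haveI : Nonempty {y : Ω // τ • y = y} := ⟨⟨x, hτx⟩⟩
    have : 0 < fx Ω τ := Nat.card_pos
    omega
  have hτinv : τ⁻¹ = τ := inv_eq_of_mul_eq_one_right hττ
  have hsemi : ∀ {r : G}, Commute r τ → r • x = x → ∀ {y : Ω}, y ≠ x → r • y = y → r = 1 := by
    intro r hr hrx y hyx hry
    by_contra hr1
    have := h.fx_of_comm hτT hr hr1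
    have := h.two_fixed_le hyx hry hrx
    omega
  -- involutions fixing `x` are conjugates of `τ` under any two-point stabiliser through `x`
  have hIx : ∀ {y : Ω}, y ≠ x → ∀ {s : G}, IsConj t s → s • x = x →
      ∃ e ∈ Zass.two x y, e * τ * e⁻¹ = s := by
    intro y hyx s hs hsx
    let f : Zass.two (G := G) x y → {s : G // IsConj t s ∧ s • x = x} := fun e =>
      ⟨e.1 * τ * e.1⁻¹, hτT.trans (isConj_iff.mpr ⟨e.1, rfl⟩), by
        rw [mul_smul, mul_smul, inv_smul_eq_iff.mpr (mem_two.mp e.2).1.symm, hτx, (mem_two.mp e.2).1]⟩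
    have hf : Function.Injective f := fun e e' he => by
      have he' : e.1 * τ * e.1⁻¹ = e'.1 * τ * e'.1⁻¹ := congrArg Subtype.val he
      have hm : e.1⁻¹ * e'.1 ∈ Zass.two x y := Subgroup.mul_mem _ (Subgroup.inv_mem _ e.2) e'.2
      have hc : Commute (e.1⁻¹ * e'.1) τ := by
        show e.1⁻¹ * e'.1 * τ = τ * (e.1⁻¹ * e'.1)
        calc e.1⁻¹ * e'.1 * τ = e.1⁻¹ * (e'.1 * τ * e'.1⁻¹) * e'.1 := by group
          _ = e.1⁻¹ * (e.1 * τ * e.1⁻¹) * e'.1 := by rw [he']
          _ = τ * (e.1⁻¹ * e'.1) := by group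
      exact Subtype.ext (inv_mul_eq_one.mp (hsemi hc (mem_two.mp hm).1 hyx (mem_two.mp hm).2))
    have hcard : Nat.card {s : G // IsConj t s ∧ s • x = x} = Nat.card (Zass.two (G := G) x y) := by
      have hTd : Nat.card {s : G // IsConj t s} = Nat.card Ω * Nat.card (Zass.two (G := G) x y) := by
        have h1 := h.card_conjugates
        have h2 := h.card_group (Ne.symm hyx)
        have hW : Nat.card {p : Ω × Ω // p.1 ≠ p.2} = Nat.card Ω * (Nat.card Ω - 1) := by
          rw [Nat.card_eq_fintype_card, Fintype.card_subtype, Nat.card_eq_fintype_card,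
            show (Finset.univ.filter fun p : Ω × Ω => p.1 ≠ p.2) = (Finset.univ : Finset Ω).offDiag by
              ext p; simp, Finset.offDiag_card, Finset.card_univ, Nat.mul_sub, mul_one]
        rw [hW, h.card_eq, hi1, Nat.add_sub_cancel_left] at h2
        rw [h.card_eq, hi1]
        refine Nat.eq_of_mul_eq_mul_right (Nat.card_pos (α := Subgroup.centralizer ({t} : Set G))) ?_
        rw [h1, h2]
        ring
      have hsig : Nat.card {s : G // IsConj t s} =
          Nat.card Ω * Nat.card {s : G // IsConj t s ∧ s • x = x} := by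
        have hone : ∀ s : {s : G // IsConj t s}, Nat.card {z : Ω // s.1 • z = z} = 1 := fun s =>
          (h.conj_fx s.2).trans hi1
        have hmv : ∀ z : Ω, Nat.card {s : G // IsConj t s ∧ s • z = z} =
            Nat.card {s : G // IsConj t s ∧ s • x = x} := fun z => by
          haveI := h.two
          haveI : MulAction.IsPretransitive G Ω := MulAction.isPretransitive_of_is_two_pretransitive
          obtain ⟨k, hk⟩ := MulAction.exists_smul_eq G x z
          refine (Nat.card_congr ((MulAut.conj k).toEquiv.subtypeEquiv fun s => ?_)).symm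
          show IsConj t s ∧ s • x = x ↔ IsConj t (k * s * k⁻¹) ∧ (k * s * k⁻¹) • z = z
          rw [mul_smul, mul_smul, show k⁻¹ • z = x by rw [inv_smul_eq_iff, hk]]
          refine and_congr ⟨fun e => e.trans (isConj_iff.mpr ⟨k, rfl⟩),
            fun e => e.trans (isConj_iff.mpr ⟨k, rfl⟩).symm⟩ ⟨fun e => by rw [e, hk], fun e => ?_⟩
          exact (smul_left_cancel_iff k).mp (e.trans hk.symm)
        letI : Fintype G := Fintype.ofFinite G
        have e : Nat.card (Σ s : {s : G // IsConj t s}, {z : Ω // s.1 • z = z}) =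
            Nat.card (Σ z : Ω, {s : G // IsConj t s ∧ s • z = z}) :=
          Nat.card_congr
            { toFun := fun q => ⟨q.2.1, ⟨q.1.1, q.1.2, q.2.2⟩⟩
              invFun := fun q => ⟨⟨q.2.1, q.2.2.1⟩, ⟨q.1, q.2.2.2⟩⟩
              left_inv := fun _ => rfl
              right_inv := fun _ => rfl }
        rw [Nat.card_sigma, Nat.card_sigma] at e
        simp only [hone, hmv, Finset.sum_const, Finset.card_univ, smul_eq_mul, mul_one,
          ← Nat.card_eq_fintype_card] at e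
        exact e
      haveI : Nonempty Ω := ⟨x⟩
      exact Nat.eq_of_mul_eq_mul_left Nat.card_pos (hsig.symm.trans hTd)
    obtain ⟨e, he⟩ := ((Nat.bijective_iff_injective_and_card f).mpr ⟨hf, hcard.symm⟩).2 ⟨s, hs, hsx⟩
    exact ⟨e.1, e.2, congrArg Subtype.val he⟩
  -- decomposition of `C(A)_x`
  set Cx := Subgroup.centralizer (A : Set G) ⊓ MulAction.stabilizer G x with hCx
  have hmemCx : ∀ {k : G}, k ∈ Cx ↔ Cn A k ∧ k • x = x := by
    intro k
    rw [hCx, Subgroup.mem_inf, MulAction.mem_stabilizer_iff, Subgroup.mem_centralizer_iff]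
    refine and_congr_left' ⟨fun hk y hy => ?_, fun hk y hy => ?_⟩
    · rw [← hk y hy, mul_inv_cancel_right]
    · exact (mul_inv_eq_iff_eq_mul.mp (hk y hy)).symm
  set R := Cx ⊓ Subgroup.centralizer ({τ} : Set G) with hR
  have hmemR : ∀ {k : G}, k ∈ R ↔ k ∈ Cx ∧ Commute k τ := fun {k} => by
    rw [hR, Subgroup.mem_inf]
    exact and_congr_right' Subgroup.mem_centralizer_singleton_iff
  have hdec : ∀ {y : Ω}, y ∈ F → y ≠ x → ∀ {k : G}, k ∈ Cx →
      ∃ r ∈ R, ∃ e ∈ Zass.two x y, k = r * e := by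
    intro y hy hyx k hk
    obtain ⟨hk1, hk2⟩ := hmemCx.mp hk
    obtain ⟨e, he, hee⟩ := hIx hyx (s := k⁻¹ * τ * k)
      (hτT.trans (isConj_iff.mpr ⟨k⁻¹, by group⟩))
      (by rw [mul_smul, mul_smul, hk2, hτx, inv_smul_eq_iff, hk2])
    refine ⟨k * e, hmemR.mpr ⟨hmemCx.mpr ⟨hk1.mul (hcn2 hxF hy (Ne.symm hyx) he), ?_⟩, ?_⟩,
      e⁻¹, Subgroup.inv_mem _ he, (mul_inv_cancel_right _ _).symm⟩
    · rw [mul_smul, (mem_two.mp he).1, hk2]
    · show k * e * τ = τ * (k * e)
      calc k * e * τ = k * (e * τ * e⁻¹) * e := by group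
        _ = k * (k⁻¹ * τ * k) * e := by rw [hee]
        _ = τ * (k * e) := by group
  -- elements with three fixed points in `F` fix `F`
  have hthree : ∀ {y z : Ω}, y ∈ F → y ≠ x → z ∈ F → z ≠ x → z ≠ y → ∀ {e : G},
      e ∈ Zass.two x y → e • z = z → ∀ w ∈ F, e • w = w := by
    intro y z hy hyx hz hzx hzy e he hez w hw
    set B := A ⊔ Subgroup.zpowers e with hB
    have hBle : B ≤ Zass.two x y := sup_le (hsub hxF hy) (Subgroup.zpowers_le.mpr he)
    have hBF : ∀ v ∈ F, e • v = v → v ∈ fixA Ω B := fun v hv hev => mem_fixA.mpr fun k hk =>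
      (sup_le (c := MulAction.stabilizer G v) (fun a ha => mem_fixA.mp hv a ha)
        (Subgroup.zpowers_le.mpr hev)) hk
    have h3 : 3 ≤ (fixA Ω B).card := Finset.two_lt_card.mpr ⟨x, hBF x hxF (mem_two.mp he).1,
      y, hBF y hy (mem_two.mp he).2, z, hBF z hz hez, Ne.symm hyx, Ne.symm hzx, Ne.symm hzy⟩
    have h4 := hmin B x y (Ne.symm hyx) hBle ⟨x₀, le_sup_left (b := Subgroup.zpowers e) hx₀, hx₀1⟩ h3
    have h5 : fixA Ω B = F := Finset.eq_of_subset_of_card_le
      (fun v hv => mem_fixA.mpr fun a ha => mem_fixA.mp hv a (le_sup_left (b := Subgroup.zpowers e) ha)) h4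
    exact mem_fixA.mp (h5.symm ▸ hw) e (le_sup_right (a := A) (Subgroup.mem_zpowers e))
  -- every stabiliser of `x` and a point of `F` fixes `F`
  have hall : ∀ {y : Ω}, y ∈ F → y ≠ x → ∀ e ∈ Zass.two (G := G) x y, ∀ w ∈ F, e • w = w := by
    intro y hy hyx
    set z := τ • y with hzdef
    have hzF : z ∈ F := cn_preserves (Or.inr hτA) hy
    have hzy : z ≠ y := fun e => hyx (honly y e)
    have hzx : z ≠ x := fun e => hyx ((smul_left_cancel_iff τ).mp (e.trans hτx.symm))
    have hRy : ∀ {r : G}, r ∈ R → r • y ≠ x := fun {r} hr e => hyx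
      ((smul_left_cancel_iff r).mp (e.trans (hmemCx.mp (hmemR.mp hr).1).2.symm))
    have horb : ∀ w : Ω, w ∈ MulAction.orbit Cx y ↔ ∃ r ∈ R, r • y = w := by
      refine fun w => ⟨?_, ?_⟩
      · rintro ⟨k, rfl⟩
        obtain ⟨r, hr, e, he, hke⟩ := hdec hy hyx k.2
        refine ⟨r, hr, ?_⟩
        show r • y = (k : G) • y
        rw [hke, mul_smul, (mem_two.mp he).2]
      · rintro ⟨r, hr, rfl⟩
        exact ⟨⟨r, (hmemR.mp hr).1⟩, rfl⟩
    have hwF : ∀ {w : Ω}, w ∈ MulAction.orbit Cx y → w ∈ F ∧ w ≠ x := fun {w} hw => by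
      obtain ⟨r, hr, rfl⟩ := (horb w).mp hw
      exact ⟨cn_preserves (Or.inl (hmemCx.mp (hmemR.mp hr).1).1) hy, hRy hr⟩
    have hzorb : ∀ {w : Ω}, w ∈ MulAction.orbit Cx y → w ≠ z := by
      rintro w hw rfl
      obtain ⟨r, hr, hrz⟩ := (horb _).mp hw
      have hrR := hmemR.mp hr
      have hk : (r⁻¹ * τ) • y = y := by rw [mul_smul, ← hzdef, ← hrz, inv_smul_smul]
      obtain ⟨l, hl⟩ := hodd (hmemCx.mp hrR.1).1
      have hp : (r⁻¹ * τ) ^ orderOf r = τ := by
        rw [(show Commute r⁻¹ τ from hrR.2.inv_left).mul_pow, inv_pow, pow_orderOf_eq_one, inv_one,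
          one_mul, hl, pow_succ, pow_mul, pow_two, hττ, one_pow, one_mul]
      have hτy := Subgroup.pow_mem (MulAction.stabilizer G y) (MulAction.mem_stabilizer_iff.mpr hk) (orderOf r)
      rw [hp] at hτy
      exact hzy hτy
    have hcardorb : ∀ y', Zass.two (G := G) x y' ≤ Cx → (∀ e ∈ Zass.two (G := G) x y',
        ¬ (∀ w ∈ F, e • w = w) → Nat.card {w : MulAction.orbit Cx y // e • (w : Ω) = w} =
          if y' = y then 1 else 0) →
        ∃ m, m * Nat.card (Zass.two (G := G) x y') =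
          Nat.card {e : Zass.two (G := G) x y' // ∀ w ∈ F, e.1 • w = w} * Nat.card (MulAction.orbit Cx y) +
          Nat.card {e : Zass.two (G := G) x y' // ¬ ∀ w ∈ F, e.1 • w = w} * if y' = y then 1 else 0 := by
      intro y' hle hne
      letI : MulAction (Zass.two (G := G) x y') (MulAction.orbit Cx y) :=
        MulAction.compHom _ (Subgroup.inclusion hle)
      letI : Fintype (Zass.two (G := G) x y') := Fintype.ofFinite _
      letI : Fintype (MulAction.orbit Cx y) := Fintype.ofFinite _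
      have hb := MulAction.sum_card_fixedBy_eq_card_orbits_mul_card_group (Zass.two (G := G) x y')
        (MulAction.orbit Cx y)
      have hf : ∀ e : Zass.two (G := G) x y',
          Fintype.card (MulAction.fixedBy (MulAction.orbit Cx y) e) =
            if ∀ w ∈ F, e.1 • w = w then Nat.card (MulAction.orbit Cx y)
            else if y' = y then 1 else 0 := fun e => by
        rw [← Nat.card_eq_fintype_card]
        have e1 : Nat.card (MulAction.fixedBy (MulAction.orbit Cx y) e) =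
            Nat.card {w : MulAction.orbit Cx y // e.1 • (w : Ω) = w} :=
          Nat.card_congr (Equiv.subtypeEquivRight fun w => by
            rw [MulAction.mem_fixedBy, Subtype.ext_iff]; rfl)
        rw [e1]
        by_cases he : ∀ w ∈ F, e.1 • w = w
        · rw [if_pos he]
          exact Nat.card_congr (Equiv.subtypeUnivEquiv fun w => he _ (hwF w.2).1)
        · rw [if_neg he]
          exact hne e.1 e.2 he
      simp only [hf] at hb
      rw [Finset.sum_ite, Finset.sum_const, Finset.sum_const, smul_eq_mul, smul_eq_mul,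
        ← Fintype.card_subtype, ← Fintype.card_subtype, ← Nat.card_eq_fintype_card,
        ← Nat.card_eq_fintype_card, ← Nat.card_eq_fintype_card] at hb
      exact ⟨_, by rw [hb, Nat.card_eq_fintype_card (α := ↥(Zass.two (G := G) x y'))]⟩
    have hleC : ∀ {y' : Ω}, y' ∈ F → y' ≠ x → Zass.two (G := G) x y' ≤ Cx := fun hy' hy'x e he =>
      hmemCx.mpr ⟨hcn2 hxF hy' (Ne.symm hy'x) he, (mem_two.mp he).1⟩
    obtain ⟨m1, hm1⟩ := hcardorb y (hleC hy hyx) fun e he hne => by
      rw [if_pos rfl, Nat.card_eq_one_iff_unique]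
      refine ⟨⟨fun w w' => Subtype.ext (Subtype.ext ?_)⟩,
        ⟨⟨⟨y, MulAction.mem_orbit_self y⟩, (mem_two.mp he).2⟩⟩⟩
      by_contra hww
      have : ∀ v : {w : MulAction.orbit Cx y // e • (w : Ω) = w}, (v.1 : Ω) = y := fun v => by
        by_contra hv
        exact hne (hthree hy hyx (hwF v.1.2).1 (hwF v.1.2).2 hv he v.2)
      exact hww ((this w).trans (this w').symm)
    obtain ⟨m2, hm2⟩ := hcardorb z (hleC hzF hzx) fun e he hne => by
      rw [if_neg hzy, Nat.card_eq_zero]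
      left
      exact ⟨fun v => hne (hthree hzF hzx (hwF v.1.2).1 (hwF v.1.2).2 (hzorb v.1.2) he v.2)⟩
    rw [if_pos rfl, mul_one] at hm1
    rw [if_neg hzy, mul_zero, add_zero] at hm2
    have hd := h.card_two (Ne.symm hyx) (Ne.symm hzx)
    have hk : Nat.card {e : Zass.two (G := G) x y // ∀ w ∈ F, e.1 • w = w} =
        Nat.card {e : Zass.two (G := G) x z // ∀ w ∈ F, e.1 • w = w} :=
      Nat.card_congr
        { toFun := fun e => ⟨⟨e.1.1, mem_two.mpr ⟨e.2 x hxF, e.2 z hzF⟩⟩, e.2⟩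
          invFun := fun e => ⟨⟨e.1.1, mem_two.mpr ⟨e.2 x hxF, e.2 y hy⟩⟩, e.2⟩
          left_inv := fun _ => rfl
          right_inv := fun _ => rfl }
    have hsplit : Nat.card {e : Zass.two (G := G) x y // ∀ w ∈ F, e.1 • w = w} +
        Nat.card {e : Zass.two (G := G) x y // ¬ ∀ w ∈ F, e.1 • w = w} =
        Nat.card (Zass.two (G := G) x y) := by
      rw [← Nat.card_sum]
      exact Nat.card_congr (Equiv.sumCompl _)
    rw [← hd, ← hk] at hm2
    rw [← hm2] at hm1
    have hk1 : 0 < Nat.card {e : Zass.two (G := G) x y // ∀ w ∈ F, e.1 • w = w} :=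
      haveI : Nonempty {e : Zass.two (G := G) x y // ∀ w ∈ F, e.1 • w = w} :=
        ⟨⟨1, fun w _ => one_smul _ w⟩⟩
      Nat.card_pos
    set d := Nat.card (Zass.two (G := G) x y)
    have hzero : Nat.card {e : Zass.two (G := G) x y // ¬ ∀ w ∈ F, e.1 • w = w} = 0 := by
      set k := Nat.card {e : Zass.two (G := G) x y // ¬ ∀ w ∈ F, e.1 • w = w}
      by_contra hk0
      rcases Nat.lt_or_ge m2 m1 with hlt | hge
      · have : (m2 + 1) * d ≤ m1 * d := Nat.mul_le_mul_right _ hlt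
        rw [add_mul] at this
        omega
      · have : m1 * d ≤ m2 * d := Nat.mul_le_mul_right _ hge
        omega
    intro e he w hw
    by_contra hne
    have : Nonempty {e : Zass.two (G := G) x y // ¬ ∀ w ∈ F, e.1 • w = w} :=
      ⟨⟨⟨e, he⟩, fun hh => hne (hh w hw)⟩⟩
    exact (Nat.card_pos (α := {e : Zass.two (G := G) x y // ¬ ∀ w ∈ F, e.1 • w = w})).ne' hzero
  -- conclusion: the stabiliser of `x` and `y₀` is normalised by `G_x`
  obtain ⟨y₀, hy₀, hy₀x⟩ : ∃ y ∈ F, y ≠ x := Finset.exists_mem_ne (by omega) x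
  set z₀ := τ • y₀ with hz₀
  have hz₀F : z₀ ∈ F := cn_preserves (Or.inr hτA) hy₀
  have hz₀y : y₀ ≠ z₀ := fun e => hy₀x (honly y₀ e.symm)
  have hinvE : ∀ e ∈ Zass.two x y₀, τ * e⁻¹ = e * τ := fun e he => by
    have h1 := h.swap_inverts hz₀y (s := τ) hz₀.symm (by rw [hz₀, ← mul_smul, hττ, one_smul])
      (mem_two.mpr ⟨(mem_two.mp he).2, hall hy₀ hy₀x e he z₀ hz₀F⟩)
    rw [hτinv] at h1
    rw [← h1, ← mul_assoc, ← mul_assoc, hττ, one_mul]
  have hconjE : ∀ k : G, k • x = x → ∀ e ∈ Zass.two x y₀, k * e * k⁻¹ ∈ Zass.two x y₀ := by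
    intro k hk e he
    obtain ⟨l, hl⟩ := h.two_odd hi (Ne.symm hy₀x)
    have hpw : e ^ Nat.card (Zass.two (G := G) x y₀) = 1 := by
      exact congrArg Subtype.val (pow_card_eq_one' (x := (⟨e, he⟩ : Zass.two (G := G) x y₀)))
    set e1 := e ^ (l + 1)
    have he1 : e1 ∈ Zass.two x y₀ := Subgroup.pow_mem _ he _
    have hee : e1 * e1 = e := by
      rw [← pow_add, show l + 1 + (l + 1) = (2 * l + 1) + 1 by omega, pow_succ, ← hl, hpw, one_mul]
    have img : ∀ s : G, IsConj t s → s • x = x → ∃ a ∈ Zass.two x y₀, k * s * k⁻¹ = a * τ := by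
      intro s hs hsx
      obtain ⟨a, ha, hae⟩ := hIx hy₀x (s := k * s * k⁻¹) (hs.trans (isConj_iff.mpr ⟨k, rfl⟩))
        (by rw [mul_smul, mul_smul, show k⁻¹ • x = x by rw [inv_smul_eq_iff, hk], hsx, hk])
      exact ⟨a * a, Subgroup.mul_mem _ ha ha, by rw [← hae, mul_assoc a τ, hinvE a ha, mul_assoc a a]⟩
    obtain ⟨a, ha, hae⟩ := img τ hτT hτx
    obtain ⟨b, hb, hbe⟩ := img (e1 * τ * e1⁻¹) (hτT.trans (isConj_iff.mpr ⟨e1, rfl⟩))
      (by rw [mul_smul, mul_smul, inv_smul_eq_iff.mpr (mem_two.mp he1).1.symm, hτx, (mem_two.mp he1).1])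
    have : k * e * k⁻¹ = b * a⁻¹ := by
      rw [mul_assoc e1 τ, hinvE e1 he1, ← mul_assoc e1, hee] at hbe
      rw [eq_mul_inv_iff_mul_eq]
      have : k * e * k⁻¹ * (a * τ) = b * τ := by rw [← hae, ← hbe]; group
      rw [← mul_assoc] at this
      exact mul_right_cancel this
    rw [this]
    exact Subgroup.mul_mem _ hb (Subgroup.inv_mem _ ha)
  have hx₀x : x₀ • x = x := mem_fixA.mp hxF x₀ hx₀
  refine hx₀1 (h.faith.eq_of_smul_eq_smul fun w : Ω => ?_)
  rw [one_smul]
  rcases eq_or_ne w x with rfl | hwx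
  · exact hx₀x
  obtain ⟨k, hkx, hky⟩ := h.move (Ne.symm hy₀x) (Ne.symm hwx)
  have h1 := (mem_two.mp (hconjE k⁻¹ (by rw [inv_smul_eq_iff, hkx]) x₀ (hsub hxF hy₀ hx₀))).2
  rwa [inv_inv, mul_smul, mul_smul, hky, inv_smul_eq_iff, hky] at h1

theorem three {g : G} {a b c : Ω} (hab : a ≠ b) (hbc : b ≠ c) (hac : a ≠ c)
    (ha : g • a = a) (hb : g • b = b) (hc : g • c = c) : g = 1 := by
  rcases Nat.lt_or_ge i 2 with hi | hi
  · exact h.three_of_small (by omega) hab hbc hac ha hb hc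
  · exact h.three_of_i_two (le_antisymm h.i_le_two hi) hab hbc hac ha hb hc

end Hyp

end Cfsg.Agent.InvFix
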